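import Mathlib
import Cfsg.Agent.Jordan.PrimeCycle

/-!
Primitive groups of degree 7 and 13 containing a cycle fixing exactly two points.
-/

set_option autoImplicit false
set_option maxHeartbeats 1000000

namespace CfsgLib.AltTwoPrimes

open MulAction Equiv Equiv.Perm CfsgLib.Jordan

variable {α : Type*} [Fintype α] [DecidableEq α]

theorem three_transitive {G : Subgroup (Perm α)} (hG : IsPreprimitive G α) {p : ℕ} (hp : p.Prime)
    (hpn : Fintype.card α = p + 2) {g : Perm α} (hgc : g.IsCycle) (hgp : g.support.card = p) (hg : g ∈ G) :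
    IsMultiplyPretransitive G α 3 := by
  classical
  haveI : IsPreprimitive (fixingSubgroup G ((g.support : Set α)ᶜ))
      (SubMulAction.ofFixingSubgroup G ((g.support : Set α)ᶜ)) := by
    haveI := isPretransitive_of_isCycle_mem hgc hg
    apply IsPreprimitive.of_prime_card
    convert hp
    rw [Nat.card_eq_fintype_card, Fintype.card_subtype, ← hgp]
    congr 1
    ext z
    simp [SubMulAction.mem_ofFixingSubgroup_iff]
  have hmult : IsMultiplyPreprimitive G α (1 + 2) := by
    refine hG.isMultiplyPreprimitive (s := ((g.support : Set α)ᶜ)) ?_ ?_ this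
    · rw [← Finset.coe_compl, Set.ncard_coe_finset, Finset.card_compl, hgp]
      omega
    · rw [Nat.card_eq_fintype_card]
      have := hp.two_le
      omega
  exact hmult.isMultiplyPretransitive

theorem mem_zpowers_of_commute {g x : Perm α} (hgc : g.IsCycle) (hxg : Commute x g)
    (hfix : ∀ z ∉ g.support, x z = z) : x ∈ Subgroup.zpowers g := by
  obtain ⟨δ, hδ⟩ : g.support.Nonempty := Finset.nonempty_iff_ne_empty.2 fun e => hgc.ne_one (support_eq_empty_iff.1 e)
  have hxδ : x δ ∈ g.support := by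
    rw [Perm.mem_support] at hδ ⊢
    intro h
    apply hδ
    apply x.injective
    rw [← Perm.mul_apply, hxg.eq, Perm.mul_apply, h]
  obtain ⟨k, hk⟩ := hgc.sameCycle (Perm.mem_support.mp hδ) (Perm.mem_support.mp hxδ)
  refine ⟨k, Equiv.ext fun z => ?_⟩
  by_cases hz : z ∈ g.support
  · obtain ⟨l, rfl⟩ := hgc.sameCycle (Perm.mem_support.mp hδ) (Perm.mem_support.mp hz)
    change (g ^ k) ((g ^ l) δ) = x ((g ^ l) δ)
    rw [← Perm.mul_apply x, (hxg.zpow_right l).eq, Perm.mul_apply, ← hk, ← Perm.mul_apply, ← Perm.mul_apply,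
      ← zpow_add, ← zpow_add, add_comm]
  · change (g ^ k) z = x z
    rw [hfix z hz]
    exact Perm.zpow_apply_eq_self_of_apply_eq_self (Perm.notMem_support.1 hz) k

theorem conj_pow_eq {M : Type*} [Group M] {x y : M} {i : ℕ} (h : x * y * x⁻¹ = y ^ i) :
    ∀ k : ℕ, x ^ k * y * (x ^ k)⁻¹ = y ^ i ^ k := by
  intro k
  induction k with
  | zero => simp
  | succ k ih =>
    calc x ^ (k + 1) * y * (x ^ (k + 1))⁻¹ = x * (x ^ k * y * (x ^ k)⁻¹) * x⁻¹ := by rw [pow_succ']; group
      _ = (x * y * x⁻¹) ^ i ^ k := by rw [ih, conj_pow]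
      _ = y ^ i ^ (k + 1) := by rw [h, ← pow_mul, pow_succ']

theorem conj_cases {M : Type*} [Group M] [Finite M] {p : ℕ} [hp : Fact p.Prime] {x y : M} (hy : orderOf y = p)
    (h : x * y * x⁻¹ ∈ Subgroup.zpowers y) :
    Commute (x ^ (p - 1)) y ∧
      (∀ a : ℕ, a.Coprime (p - 1) → Commute (x ^ a) y → Commute x y) ∧
      (Commute (x ^ 2) y → Commute x y ∨ x * y * x⁻¹ = y⁻¹) := by
  obtain ⟨i, hi⟩ := (isOfFinOrder_of_finite y).mem_powers_iff_mem_zpowers.2 h
  replace hi : x * y * x⁻¹ = y ^ i := hi.symm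
  have key : ∀ a : ℕ, Commute (x ^ a) y ↔ ((i : ZMod p) ^ a = 1) := by
    intro a
    rw [← Nat.cast_pow, ← Nat.cast_one, ZMod.natCast_eq_natCast_iff, ← hy, ← pow_eq_pow_iff_modEq, pow_one,
      ← conj_pow_eq hi a, mul_inv_eq_iff_eq_mul]
    rfl
  have hi0 : (i : ZMod p) ≠ 0 := by
    intro e
    rw [ZMod.natCast_eq_zero_iff] at e
    obtain ⟨c, rfl⟩ := e
    rw [← hy, pow_mul, pow_orderOf_eq_one, one_pow, mul_inv_eq_one] at hi
    have : y = 1 := by
      simpa using congrArg (fun z => x⁻¹ * z) hi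
    rw [this, orderOf_one] at hy
    exact hp.out.ne_one hy.symm
  refine ⟨(key _).2 (ZMod.pow_card_sub_one_eq_one hi0), fun a ha hc => ?_, fun hc => ?_⟩
  · have h1 := pow_gcd_eq_one (a := (i : ZMod p)) (m := a) (n := p - 1)
    rw [ha.gcd_eq_one, pow_one] at h1
    have := (key 1).2 (by rw [pow_one]; exact h1.2 ⟨(key a).1 hc, ZMod.pow_card_sub_one_eq_one hi0⟩)
    rwa [pow_one] at this
  · have h2 := (key 2).1 hc
    rw [sq_eq_one_iff] at h2
    rcases h2 with h2 | h2
    · have := (key 1).2 (by rw [pow_one, h2])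
      rw [pow_one] at this
      exact Or.inl this
    · right
      rw [hi, eq_inv_iff_mul_eq_one, ← pow_succ, ← orderOf_dvd_iff_pow_eq_one, hy,
        ← ZMod.natCast_eq_zero_iff, Nat.cast_add, h2, Nat.cast_one, neg_add_cancel]

theorem sign_inverting {g v : Perm α} {p : ℕ} (hp : p.Prime) (hodd : p % 4 = 3) (hgc : g.IsCycle)
    (hgp : g.support.card = p) (hv : v ^ 2 = 1) (hconj : v * g * v⁻¹ = g⁻¹)
    (hfix : ∀ z ∉ g.support, v z = z) : sign v = -1 := by
  classical
  haveI : Fact (Nat.Prime 2) := ⟨Nat.prime_two⟩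
  have hsub : v.support ⊆ g.support := fun z hz => by
    by_contra hc
    exact Perm.mem_support.1 hz (hfix z hc)
  have hne : v ≠ 1 := by
    intro e
    rw [e, one_mul, inv_one, mul_one, eq_inv_iff_mul_eq_one, ← pow_two] at hconj
    have h1 := orderOf_dvd_of_pow_eq_one hconj
    rw [hgc.orderOf, hgp, Nat.prime_dvd_prime_iff_eq hp Nat.prime_two] at h1
    omega
  have hord : orderOf v = 2 := orderOf_eq_prime hv hne
  obtain ⟨c, hc⟩ := cycleType_prime_order (σ := v) (by rw [hord]; exact Nat.prime_two)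
  rw [hord] at hc
  have hsupp : v.support.card = 2 * (c + 1) := by
    rw [← sum_cycleType, hc, Multiset.sum_replicate, smul_eq_mul, mul_comm]
  have huniq : ∀ z ∈ g.support, ∀ z' ∈ g.support, v z = z → v z' = z' → z = z' := by
    intro z hz z' hz' h1 h2
    obtain ⟨k, rfl⟩ := hgc.sameCycle (Perm.mem_support.mp hz) (Perm.mem_support.mp hz')
    have h3 : v ((g ^ k) z) = (g⁻¹ ^ k) z := by
      have h4 : v * g ^ k * v⁻¹ = g⁻¹ ^ k := by rw [← conj_zpow, hconj]
      have h5 : v⁻¹ z = z := by rw [Perm.inv_eq_iff_eq, h1]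
      conv_rhs => rw [← h4, Perm.mul_apply, Perm.mul_apply, h5]
    rw [h2, inv_zpow] at h3
    have h4 : (g ^ (k + k)) z = z := by
      rw [zpow_add, Perm.mul_apply]
      conv_lhs => rw [h3]
      rw [← Perm.mul_apply, mul_inv_cancel, Perm.one_apply]
    have h6 : g ^ (k + k) = 1 := Equiv.ext fun w => by
      rw [Perm.one_apply]
      by_cases hw : w ∈ g.support
      · obtain ⟨l, rfl⟩ := hgc.sameCycle (Perm.mem_support.mp hz) (Perm.mem_support.mp hw)
        rw [← Perm.mul_apply, ← zpow_add, add_comm, zpow_add, Perm.mul_apply, h4]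
      · exact Perm.zpow_apply_eq_self_of_apply_eq_self (Perm.notMem_support.1 hw) _
    have h7 := orderOf_dvd_iff_zpow_eq_one.2 h6
    rw [hgc.orderOf, hgp, ← two_mul] at h7
    have h8 : (p : ℤ) ∣ k := by
      refine (Int.isCoprime_iff_gcd_eq_one.2 ?_).dvd_of_dvd_mul_left h7
      change Nat.gcd p 2 = 1
      exact (Nat.coprime_primes hp Nat.prime_two).2 (by omega)
    rw [← hgp, ← hgc.orderOf, orderOf_dvd_iff_zpow_eq_one] at h8
    rw [h8, Perm.one_apply]
  have hfixed : (g.support \ v.support).card ≤ 1 := Finset.card_le_one.2 fun a ha b hb => by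
    rw [Finset.mem_sdiff, Perm.notMem_support] at ha hb
    exact huniq a ha.1 b hb.1 ha.2 hb.2
  rw [Finset.card_sdiff_of_subset hsub, hgp, hsupp] at hfixed
  have hle := Finset.card_le_card hsub
  rw [hgp, hsupp] at hle
  rw [sign_of_cycleType, hc, Multiset.sum_replicate, Multiset.card_replicate, smul_eq_mul]
  refine Odd.neg_one_pow ?_
  rw [Nat.odd_iff]
  omega

theorem card_fix_dvd (H : Subgroup (Perm α)) (S : Finset α) (hH : ∀ x ∈ H, ∀ z ∉ S, x z = z) :
    Nat.card H ∣ S.card.factorial := by
  classical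
  have hpres : ∀ x : H, ∀ y, (x : Perm α) y ∈ S ↔ y ∈ S := by
    intro x y
    constructor
    · intro hy
      by_contra hc
      rw [hH x x.2 y hc] at hy
      exact hc hy
    · intro hy
      by_contra hc
      have := (x : Perm α).injective (hH x x.2 _ hc)
      rw [this] at hc
      exact hc hy
  let φ : H →* Perm {y // y ∈ S} :=
    { toFun := fun x => (x : Perm α).subtypePerm (hpres x)
      map_one' := by ext y; rfl
      map_mul' := fun x y => by ext z; rfl }
  have hφ : Function.Injective φ := by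
    intro x y hxy
    refine Subtype.ext (Equiv.ext fun z => ?_)
    by_cases hz : z ∈ S
    · exact congrArg Subtype.val (Equiv.ext_iff.mp hxy ⟨z, hz⟩)
    · rw [hH x x.2 z hz, hH y y.2 z hz]
  have := Subgroup.card_dvd_of_injective φ hφ
  rwa [Nat.card_perm, Nat.card_eq_finsetCard] at this

theorem exists_sylow_zpowers {H : Type*} [Group H] [Finite H] {p : ℕ} [hp : Fact p.Prime] {x : H}
    (hx : orderOf x = p) (h2 : ¬ p ^ 2 ∣ Nat.card H) :
    ∃ P : Sylow p H, (P : Subgroup H) = Subgroup.zpowers x := by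
  obtain ⟨P, hP⟩ := (IsPGroup.of_card (p := p) (G := Subgroup.zpowers x) (n := 1)
    (by rw [Nat.card_zpowers, hx, pow_one])).exists_le_sylow
  refine ⟨P, (Subgroup.eq_of_le_of_card_ge hP ?_).symm⟩
  rw [P.card_eq_multiplicity, Nat.card_zpowers, hx]
  refine le_of_le_of_eq (Nat.pow_le_pow_right hp.out.pos ?_) (pow_one p)
  by_contra hc
  exact h2 ((hp.out.pow_dvd_iff_le_factorization Nat.card_pos.ne').2 (by omega))

/-- Degree 7. -/
theorem degree_seven {G : Subgroup (Perm α)} (hα : Fintype.card α = 7) (hGA : G ≤ alternatingGroup α)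
    (hG : IsMultiplyPretransitive G α 3) : G = alternatingGroup α := by
  classical
  haveI : Fact (Nat.Prime 7) := ⟨by norm_num⟩
  haveI : Fact (Nat.Prime 2) := ⟨Nat.prime_two⟩
  have h210 : 210 ∣ Nat.card G := by
    obtain ⟨s, -, hs⟩ := Finset.exists_subset_card_eq (s := (Finset.univ : Finset α)) (n := 3) (by simp [hα])
    have h := IsMultiplyPretransitive.index_of_fixingSubgroup_eq (G := G) (α := α) (s : Set α)
      (by rw [Set.ncard_coe_finset, hs]; exact hG)
    rw [Set.ncard_coe_finset, hs, Nat.card_eq_fintype_card (α := α), hα] at h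
    have h2 := Subgroup.index_dvd_card (fixingSubgroup G (s : Set α))
    rw [h] at h2
    simpa [Nat.choose, Nat.factorial] using h2
  haveI : Nontrivial α := Fintype.one_lt_card_iff_nontrivial.1 (by omega)
  haveI hsimple : IsSimpleGroup (alternatingGroup α) :=
    alternatingGroup.isSimpleGroup (by rw [Nat.card_eq_fintype_card]; omega)
  have hA : Nat.card (alternatingGroup α) = 2520 := by
    rw [nat_card_alternatingGroup, Nat.card_eq_fintype_card, hα]
    rfl
  set K := G.subgroupOf (alternatingGroup α) with hK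
  have hKcard : Nat.card K = Nat.card G := Nat.card_congr (Subgroup.subgroupOfEquivOfLe hGA).toEquiv
  have hmul := K.card_mul_index
  rw [hA, hKcard] at hmul
  by_contra hne
  have hKtop : K ≠ ⊤ := fun e => hne (le_antisymm hGA (Subgroup.subgroupOf_eq_top.1 e))
  have hcore : K.normalCore = ⊥ := by
    rcases hsimple.eq_bot_or_eq_top_of_normal K.normalCore inferInstance with h | h
    · exact h
    · exact absurd (top_le_iff.1 (h ▸ K.normalCore_le)) hKtop
  have hinj : Function.Injective (MulAction.toPermHom (alternatingGroup α) (alternatingGroup α ⧸ K)) := by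
    rw [← MonoidHom.ker_eq_bot_iff, ← Subgroup.normalCore_eq_ker, hcore]
  have hdvd := Subgroup.card_dvd_of_injective _ hinj
  rw [hA, Nat.card_perm, ← Subgroup.index_eq_card] at hdvd
  obtain ⟨c, hc⟩ := h210
  have hi12 : K.index * c = 12 := by
    rw [hc] at hmul
    have : 210 * (K.index * c) = 2520 := by rw [← hmul]; ring
    omega
  have hi : K.index = 12 := by
    have : K.index ∣ 12 := ⟨c, hi12.symm⟩
    have h1 := Nat.le_of_dvd (by norm_num) this
    generalize hk : K.index = k at hdvd this h1 ⊢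
    interval_cases k <;> first | rfl | (revert hdvd this; decide)
  rw [hi] at hmul
  have hG210 : Nat.card G = 210 := by omega
  obtain ⟨y, hy⟩ := exists_prime_orderOf_dvd_card' (G := G) 7 (by rw [hG210]; norm_num)
  have hy' : orderOf (y : Perm α) = 7 := by rw [Subgroup.orderOf_coe, hy]
  have hyc : (y : Perm α).IsCycle := isCycle_of_prime_order'' (by rw [hα]; norm_num) (by rw [hy', hα])
  have hysupp : (y : Perm α).support.card = 7 := by rw [← hyc.orderOf, hy']
  have hfull : ∀ (x : Perm α) (z : α), z ∉ (y : Perm α).support → x z = z := fun x z hz => by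
    have : (y : Perm α).support = Finset.univ := Finset.eq_univ_of_card _ (by rw [hysupp, hα])
    exact absurd (this ▸ Finset.mem_univ z) hz
  have hcent : ∀ x : G, Commute x y → x ^ 7 = 1 := by
    intro x hx
    obtain ⟨k, hk⟩ := mem_zpowers_of_commute hyc (hx.map G.subtype) (hfull x)
    replace hk : (y : Perm α) ^ k = (x : Perm α) := hk
    refine Subtype.ext ?_
    rw [SubgroupClass.coe_pow, ← hk, ← zpow_natCast, ← zpow_mul, mul_comm, zpow_mul, zpow_natCast, ← hy',
      pow_orderOf_eq_one, one_zpow, OneMemClass.coe_one]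
  obtain ⟨P, hP⟩ := exists_sylow_zpowers (p := 7) hy (by rw [hG210]; norm_num)
  have hn := Sylow.card_dvd_index P
  have hmod := card_sylow_modEq_one 7 G
  have hPc : Nat.card P = 7 := by rw [show Nat.card P = Nat.card (Subgroup.zpowers y) by rw [← hP], Nat.card_zpowers, hy]
  have hPi : (P : Subgroup G).index = 30 := by
    have := (P : Subgroup G).card_mul_index
    rw [hG210] at this
    change Nat.card P * _ = _ at this
    rw [hPc] at this
    omega
  rw [hPi] at hn
  have hnorm : ∀ x ∈ Subgroup.normalizer (P : Set G), x * y * x⁻¹ ∈ Subgroup.zpowers y := fun x hx => by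
    rw [← hP]
    exact (Subgroup.mem_normalizer_iff.1 hx y).1 (hP ▸ Subgroup.mem_zpowers y)
  have hN := (Subgroup.normalizer (P : Set G)).card_mul_index
  rw [← Sylow.card_eq_index_normalizer P, hG210] at hN
  generalize Nat.card (Sylow 7 G) = n at hn hmod hN
  have hn' : n = 1 ∨ n = 15 := by
    have h1 := Nat.le_of_dvd (by norm_num) hn
    unfold Nat.ModEq at hmod
    interval_cases n <;> omega
  rcases hn' with rfl | rfl
  · haveI : Fact (Nat.Prime 5) := ⟨by norm_num⟩
    obtain ⟨z, hz⟩ := exists_prime_orderOf_dvd_card' (G := Subgroup.normalizer (P : Set G)) 5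
      (by rw [mul_one] at hN; rw [hN]; norm_num)
    have hz5 : (z : G) ^ 5 = 1 := by rw [← SubgroupClass.coe_pow, ← hz, pow_orderOf_eq_one]; rfl
    obtain ⟨-, h2, -⟩ := conj_cases hy (hnorm z z.2)
    have := hcent z (h2 5 (by norm_num) (by rw [hz5]; exact Commute.one_left _))
    have h7 := orderOf_dvd_of_pow_eq_one this
    rw [Subgroup.orderOf_coe, hz] at h7
    norm_num at h7
  · obtain ⟨v, hv⟩ := exists_prime_orderOf_dvd_card' (G := Subgroup.normalizer (P : Set G)) 2
      (by rw [show Nat.card (Subgroup.normalizer (P : Set G)) = 14 by omega]; norm_num)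
    have hv2 : (v : G) ^ 2 = 1 := by rw [← SubgroupClass.coe_pow, ← hv, pow_orderOf_eq_one]; rfl
    obtain ⟨-, -, h3⟩ := conj_cases hy (hnorm v v.2)
    rcases h3 (by rw [hv2]; exact Commute.one_left _) with h | h
    · have h7 := orderOf_dvd_of_pow_eq_one (hcent v h)
      rw [Subgroup.orderOf_coe, hv] at h7
      norm_num at h7
    · have hs := sign_inverting (v := ((v : G) : Perm α)) (by norm_num : Nat.Prime 7) (by norm_num) hyc hysupp
        (by rw [← SubgroupClass.coe_pow, hv2]; rfl)
        (by rw [← Subgroup.coe_inv, ← Subgroup.coe_mul, ← Subgroup.coe_mul, h]; rfl)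
        (hfull _)
      have hev := hGA (v : G).2
      rw [mem_alternatingGroup, hs] at hev
      exact absurd hev (by decide)

theorem mul_card_le_card_prime {G : Type*} [Group G] [Finite G] {p : ℕ} [hp : Fact p.Prime]
    (hP : ∀ P : Sylow p G, Nat.card P = p) :
    Nat.card (Sylow p G) * (p - 1) ≤ Nat.card {x : G // orderOf x = p} := by
  have hgen : ∀ (P : Sylow p G) (x : G), x ∈ P → x ≠ 1 → orderOf x = p ∧ (P : Subgroup G) = Subgroup.zpowers x := by
    intro P x hx hx1
    have h1 : orderOf x ∣ p := by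
      have := orderOf_dvd_natCard (⟨x, hx⟩ : (P : Subgroup G))
      rwa [show Nat.card P = p from hP P, ← Subgroup.orderOf_coe] at this
    have h2 : orderOf x = p := (hp.out.eq_one_or_self_of_dvd _ h1).resolve_left (by rwa [orderOf_eq_one_iff])
    refine ⟨h2, (Subgroup.eq_of_le_of_card_ge (Subgroup.zpowers_le.2 hx) ?_).symm⟩
    rw [Nat.card_zpowers, h2]
    exact (hP P).le
  let f : (Σ P : Sylow p G, {x : (P : Subgroup G) // x ≠ 1}) → {x : G // orderOf x = p} := fun z =>
    ⟨z.2.1.1, (hgen z.1 _ z.2.1.2 fun e => z.2.2 (Subtype.ext e)).1⟩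
  have hf : Function.Injective f := by
    rintro ⟨P, ⟨x, hx⟩, hx1⟩ ⟨Q, ⟨x', hx'⟩, hx1'⟩ e
    obtain rfl : x = x' := congrArg Subtype.val e
    have h1 := hgen P x hx fun e => hx1 (Subtype.ext e)
    have h2 := hgen Q x hx' fun e => hx1 (Subtype.ext e)
    obtain rfl : P = Q := Sylow.ext (h1.2.trans h2.2.symm)
    rfl
  refine le_of_eq_of_le ?_ (Nat.card_le_card_of_injective f hf)
  classical
  haveI := Fintype.ofFinite G
  haveI := Fintype.ofFinite (Sylow p G)
  rw [Nat.card_sigma]
  have hcard : ∀ P : Sylow p G, Nat.card {x : (P : Subgroup G) // x ≠ 1} = p - 1 := fun P => by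
    rw [Nat.card_eq_fintype_card, Fintype.card_subtype_compl, Fintype.card_subtype_eq, ← Nat.card_eq_fintype_card,
      show Nat.card (P : Subgroup G) = p from hP P]
  rw [Finset.sum_congr rfl fun P _ => hcard P, Finset.sum_const, smul_eq_mul, Finset.card_univ,
    Nat.card_eq_fintype_card]

/-- No sharply transitive situation in degree 13. -/
theorem stabilizer_card_ne {G : Subgroup (Perm α)} (hα : Fintype.card α = 13)
    (hG : IsMultiplyPretransitive G α 3) (a : α) : Nat.card (stabilizer G a) ≠ 132 := by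
  classical
  intro hcard
  haveI : Fact (Nat.Prime 11) := ⟨by norm_num⟩
  haveI : Fact (Nat.Prime 3) := ⟨by norm_num⟩
  haveI : Fact (Nat.Prime 2) := ⟨Nat.prime_two⟩
  set S := stabilizer G a with hS
  have hnormal : ∀ M : Subgroup S, M.Normal → M ≠ ⊥ → 12 ≤ Nat.card M := by
    intro M hM hM1
    obtain ⟨m₀, hm₀, hm₀1⟩ := (Subgroup.bot_or_exists_ne_one M).resolve_left hM1
    obtain ⟨b, hb⟩ : ∃ b, ((m₀ : G) : Perm α) b ≠ b := by
      by_contra h
      push Not at h
      exact hm₀1 (Subtype.ext (Subtype.ext (Equiv.ext h)))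
    set c := ((m₀ : G) : Perm α) b with hc
    have hma : ∀ m : S, ((m : G) : Perm α) a = a := fun m => m.2
    have hba : b ≠ a := fun e => hb (by rw [hc, e, hma])
    have hca : c ≠ a := fun e => hba (((m₀ : G) : Perm α).injective (e.trans (hma m₀).symm))
    have hcov : ∀ d : α, d ≠ a → ∃ m : M, (((m : S) : G) : Perm α) b = d := by
      intro d hda
      rcases eq_or_ne d b with rfl | hdb
      · exact ⟨1, rfl⟩
      obtain ⟨k, hkG, hk⟩ := exists_map_of_isMultiplyPretransitive ({a, b, c} : Finset α)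
        (by
          have h3 : ({a, b, c} : Finset α).card = 3 :=
            Finset.card_eq_three.2 ⟨a, b, c, Ne.symm hba, Ne.symm hca, Ne.symm hb, rfl⟩
          rw [h3]; exact hG) (Equiv.swap c d)
      have hka : k a = a := by rw [hk a (by simp), Equiv.swap_apply_of_ne_of_ne (Ne.symm hca) (Ne.symm hda)]
      have hkb : k b = b := by rw [hk b (by simp), Equiv.swap_apply_of_ne_of_ne (Ne.symm hb) (Ne.symm hdb)]
      have hkc : k c = d := by rw [hk c (by simp), Equiv.swap_apply_left]
      let k' : S := ⟨⟨k, hkG⟩, hka⟩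
      refine ⟨⟨k' * m₀ * k'⁻¹, hM.conj_mem m₀ hm₀ k'⟩, ?_⟩
      change (k * ((m₀ : G) : Perm α) * k⁻¹) b = d
      rw [Perm.mul_apply, Perm.mul_apply, show k⁻¹ b = b by rw [Perm.inv_eq_iff_eq, hkb], ← hc, hkc]
    have h1 : (Finset.univ.erase a).card = 12 := by simp [hα]
    rw [← h1, Nat.card_eq_fintype_card, ← Finset.card_univ (α := M)]
    refine le_trans (Finset.card_le_card (t := Finset.univ.image fun m : M => (((m : S) : G) : Perm α) b) ?_)
      Finset.card_image_le
    intro d hd
    obtain ⟨m, hm⟩ := hcov d (Finset.mem_erase.1 hd).1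
    exact Finset.mem_image.2 ⟨m, Finset.mem_univ _, hm⟩
  have hnot : ∀ {r : ℕ} [Fact r.Prime], Nat.card (Sylow r S) = 1 → ∀ P : Sylow r S, 1 < Nat.card P →
      Nat.card P < 12 → False := by
    intro r _ h P h1 h2
    haveI := (Nat.card_eq_one_iff_unique.1 h).1
    haveI := Sylow.normal_of_subsingleton P
    exact absurd (hnormal (P : Subgroup S) inferInstance fun e => by
      rw [show Nat.card P = Nat.card (P : Subgroup S) from rfl, e, Subgroup.card_bot] at h1; omega) (not_le.2 h2)
  have hc : ∀ (r : ℕ) [Fact r.Prime] (P : Sylow r S), Nat.card P = r ^ (Nat.card S).factorization r :=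
    fun r _ P => P.card_eq_multiplicity
  have f11 : (Nat.card S).factorization 11 = 1 := by
    rw [hcard, show (132 : ℕ) = 11 * 12 by norm_num, Nat.factorization_mul (by norm_num) (by norm_num)]
    simp [Nat.Prime.factorization (by norm_num : Nat.Prime 11), Nat.factorization_eq_zero_of_not_dvd (by norm_num : ¬ 11 ∣ 12)]
  have f3 : (Nat.card S).factorization 3 = 1 := by
    rw [hcard, show (132 : ℕ) = 3 * 44 by norm_num, Nat.factorization_mul (by norm_num) (by norm_num)]
    simp [Nat.Prime.factorization (by norm_num : Nat.Prime 3), Nat.factorization_eq_zero_of_not_dvd (by norm_num : ¬ 3 ∣ 44)]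
  have c11 : ∀ P : Sylow 11 S, Nat.card P = 11 := fun P => by rw [hc 11 P, f11, pow_one]
  have c3 : ∀ P : Sylow 3 S, Nat.card P = 3 := fun P => by rw [hc 3 P, f3, pow_one]
  have hdvd : ∀ (r : ℕ) [Fact r.Prime] (P : Sylow r S) (i : ℕ), Nat.card P * i = 132 →
      Nat.card (Sylow r S) ∣ i := by
    intro r _ P i hi
    have h1 := Sylow.card_dvd_index P
    have h2 := (P : Subgroup S).card_mul_index
    rw [hcard, ← hi] at h2
    rwa [Nat.eq_of_mul_eq_mul_left Nat.card_pos h2] at h1
  obtain ⟨P11⟩ : Nonempty (Sylow 11 S) := inferInstance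
  obtain ⟨P3⟩ : Nonempty (Sylow 3 S) := inferInstance
  obtain ⟨P2⟩ : Nonempty (Sylow 2 S) := inferInstance
  have f2 : (Nat.card S).factorization 2 = 2 := by
    rw [hcard, show (132 : ℕ) = 2 ^ 2 * 33 by norm_num, Nat.factorization_mul (by norm_num) (by norm_num),
      Nat.Prime.factorization_pow (by norm_num : Nat.Prime 2)]
    simp [Nat.factorization_eq_zero_of_not_dvd (by norm_num : ¬ 2 ∣ 33)]
  have c2 : ∀ P : Sylow 2 S, Nat.card P = 4 := fun P => by rw [hc 2 P, f2]; norm_num
  have n11 : Nat.card (Sylow 11 S) = 12 := by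
    have h1 := hdvd 11 P11 12 (by rw [c11])
    have h2 := card_sylow_modEq_one 11 S
    have h3 : Nat.card (Sylow 11 S) ≠ 1 := fun e => hnot e P11 (by rw [c11]; norm_num) (by rw [c11]; norm_num)
    have h4 := Nat.le_of_dvd (by norm_num) h1
    unfold Nat.ModEq at h2
    omega
  have n3 : 4 ≤ Nat.card (Sylow 3 S) := by
    have h2 := card_sylow_modEq_one 3 S
    have h3 : Nat.card (Sylow 3 S) ≠ 1 := fun e => hnot e P3 (by rw [c3]; norm_num) (by rw [c3]; norm_num)
    unfold Nat.ModEq at h2
    omega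
  have n2 : Nat.card (Sylow 2 S) ≠ 1 := fun e => hnot e P2 (by rw [c2]; norm_num) (by rw [c2]; norm_num)
  haveI : Nontrivial (Sylow 2 S) := by
    rw [← Finite.one_lt_card_iff_nontrivial]
    have : 0 < Nat.card (Sylow 2 S) := Nat.card_pos
    omega
  obtain ⟨Q, hQ⟩ := exists_ne P2
  let A : Finset S := Finset.univ.filter fun x => orderOf x = 11
  let B : Finset S := Finset.univ.filter fun x => orderOf x = 3
  let C : Finset S := Finset.univ.filter fun x => x ∈ (P2 : Subgroup S) ∨ x ∈ (Q : Subgroup S)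
  have hA : 120 ≤ A.card := by
    have h := mul_card_le_card_prime c11
    rw [n11, Nat.card_eq_fintype_card, Fintype.card_subtype] at h
    exact h
  have hB : 8 ≤ B.card := by
    have h := mul_card_le_card_prime c3
    rw [Nat.card_eq_fintype_card (α := {x : S // orderOf x = 3}), Fintype.card_subtype] at h
    change _ ≤ B.card at h
    omega
  have hC : 5 ≤ C.card := by
    obtain ⟨x, hxQ, hxP⟩ : ∃ x ∈ (Q : Subgroup S), x ∉ (P2 : Subgroup S) := by
      refine SetLike.not_le_iff_exists.1 fun hle => hQ (Sylow.ext ?_)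
      exact Subgroup.eq_of_le_of_card_ge hle (le_of_eq ((c2 P2).trans (c2 Q).symm))
    let P' : Finset S := Finset.univ.filter fun y => y ∈ (P2 : Subgroup S)
    have h4 : P'.card = 4 := by
      rw [← c2 P2]
      change P'.card = Nat.card {y : S // y ∈ (P2 : Subgroup S)}
      rw [Nat.card_eq_fintype_card, Fintype.card_subtype]
    have h5 : insert x P' ⊆ C := by
      intro y hy
      rcases Finset.mem_insert.1 hy with rfl | hy
      · exact Finset.mem_filter.2 ⟨Finset.mem_univ _, Or.inr hxQ⟩
      · exact Finset.mem_filter.2 ⟨Finset.mem_univ _, Or.inl (Finset.mem_filter.1 hy).2⟩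
    have := Finset.card_le_card h5
    rw [Finset.card_insert_of_notMem (fun h => hxP (Finset.mem_filter.1 h).2), h4] at this
    omega
  have hCdiv : ∀ x ∈ C, orderOf x ∣ 4 := by
    intro x hx
    rcases (Finset.mem_filter.1 hx).2 with h | h
    · have h' := orderOf_dvd_natCard (⟨x, h⟩ : (P2 : Subgroup S))
      rwa [show Nat.card (P2 : Subgroup S) = 4 from c2 P2, ← Subgroup.orderOf_coe] at h'
    · have h' := orderOf_dvd_natCard (⟨x, h⟩ : (Q : Subgroup S))
      rwa [show Nat.card (Q : Subgroup S) = 4 from c2 Q, ← Subgroup.orderOf_coe] at h'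
  have hAB : Disjoint A B := Finset.disjoint_left.2 fun x h1 h2 => by
    simp only [A, B, Finset.mem_filter] at h1 h2; omega
  have hABC : Disjoint (A ∪ B) C := Finset.disjoint_left.2 fun x h1 h2 => by
    have := Nat.le_of_dvd (by norm_num) (hCdiv x h2)
    rcases Finset.mem_union.1 h1 with h | h
    · simp only [A, Finset.mem_filter] at h; omega
    · simp only [B, Finset.mem_filter] at h
      have h' := hCdiv x h2
      rw [h.2] at h'
      norm_num at h'
  have h := Finset.card_le_univ (A ∪ B ∪ C)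
  rw [Finset.card_union_of_disjoint hABC, Finset.card_union_of_disjoint hAB, ← Nat.card_eq_fintype_card, hcard] at h
  omega

/-- Degree 13. -/
theorem degree_thirteen {G : Subgroup (Perm α)} (hα : Fintype.card α = 13) (hGA : G ≤ alternatingGroup α)
    (hprim : IsPreprimitive G α) (hG : IsMultiplyPretransitive G α 3) {g : Perm α} (hgc : g.IsCycle)
    (hgp : g.support.card = 11) (hg : g ∈ G) : alternatingGroup α ≤ G := by
  classical
  haveI : Fact (Nat.Prime 11) := ⟨by norm_num⟩
  haveI : Fact (Nat.Prime 5) := ⟨by norm_num⟩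
  set J : Subgroup G := fixingSubgroup G ((g.support : Set α)ᶜ) with hJ
  have hmemJ : ∀ x : G, x ∈ J ↔ ∀ z ∉ g.support, (x : Perm α) z = z := fun x => by
    rw [hJ, mem_fixingSubgroup_iff]
    simp [Subgroup.smul_def]
  let gJ : J := ⟨⟨g, hg⟩, (hmemJ _).2 fun z hz => Perm.notMem_support.1 hz⟩
  have hgord : orderOf g = 11 := by rw [hgc.orderOf, hgp]
  have hgJ : orderOf gJ = 11 := by
    rw [← Subgroup.orderOf_coe, ← Subgroup.orderOf_coe]; exact hgord
  have hJcard : Nat.card J ∣ (11).factorial := by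
    have h := card_fix_dvd (J.map G.subtype) g.support (by rintro _ ⟨x, hx, rfl⟩; exact (hmemJ x).1 hx)
    rwa [hgp, Subgroup.card_map_of_injective G.subtype_injective] at h
  obtain ⟨P, hP⟩ := exists_sylow_zpowers (p := 11) hgJ
    (fun h => CfsgLib.Jordan.not_sq_dvd_factorial (by norm_num : Nat.Prime 11) (h.trans hJcard))
  have hnorm : ∀ x ∈ Subgroup.normalizer (P : Set J), x * gJ * x⁻¹ ∈ Subgroup.zpowers gJ := fun x hx => by
    rw [← hP]
    exact (Subgroup.mem_normalizer_iff.1 hx gJ).1 (hP ▸ Subgroup.mem_zpowers gJ)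
  have hcent : ∀ x : J, Commute x gJ → x ^ 11 = 1 := by
    intro x hx
    obtain ⟨k, hk⟩ := mem_zpowers_of_commute hgc ((hx.map J.subtype).map G.subtype) ((hmemJ x).1 x.2)
    replace hk : g ^ k = ((x : G) : Perm α) := hk
    refine Subtype.ext (Subtype.ext ?_)
    rw [SubgroupClass.coe_pow, SubgroupClass.coe_pow, ← hk, ← zpow_natCast, ← zpow_mul, mul_comm, zpow_mul,
      zpow_natCast, ← hgord, pow_orderOf_eq_one, one_zpow]
    rfl
  by_cases hcase : Subgroup.normalizer (P : Set J) ≤ Subgroup.centralizer (P : Set J)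
  · exfalso
    set M := (MonoidHom.transferSylow P hcase).ker with hM
    have hcompl : Subgroup.IsComplement' M (P : Subgroup J) :=
      MonoidHom.ker_transferSylow_isComplement' P hcase
    have hM11 : ¬ 11 ∣ Nat.card M := by
      rw [← hcompl.index_eq_card]
      exact P.not_dvd_index
    have hJM : ∀ m ∈ M, m = 1 := by
      intro m hm
      by_contra hm1
      obtain ⟨z, hz⟩ : ∃ z, ((m : G) : Perm α) z ≠ z := by
        by_contra h
        push Not at h
        exact hm1 (Subtype.ext (Subtype.ext (Equiv.ext h)))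
      have hzs : z ∈ g.support := by
        by_contra hc
        exact hz ((hmemJ _).1 m.2 z hc)
      -- the orbit of `z` under `M` is all of the support
      have hsupp : ∀ (x : M) (w : α), w ∈ g.support → (((x : J) : G) : Perm α) w ∈ g.support := by
        intro x w hw
        by_contra hc
        have := (((x : J) : G) : Perm α).injective ((hmemJ _).1 (x : J).2 _ hc)
        rw [this] at hc
        exact hc hw
      haveI : M.Normal := by rw [hM]; infer_instance
      let O : Finset α := Finset.univ.image fun x : M => (((x : J) : G) : Perm α) z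
      have hOsub : O ⊆ g.support := by
        intro w hw
        obtain ⟨x, -, rfl⟩ := Finset.mem_image.1 hw
        exact hsupp x z hzs
      have hOconj : ∀ (k : ℕ) (x : M), ∃ x' : M,
          (g ^ k) ((((x : J) : G) : Perm α) z) = (((x' : J) : G) : Perm α) ((g ^ k) z) := by
        intro k x
        refine ⟨⟨gJ ^ k * x * (gJ ^ k)⁻¹, Subgroup.Normal.conj_mem ‹_› _ x.2 _⟩, ?_⟩
        change (g ^ k) _ = (g ^ k * (((x : J) : G) : Perm α) * (g ^ k)⁻¹) ((g ^ k) z)
        rw [Perm.mul_apply, Perm.mul_apply]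
        simp
      obtain ⟨k, hk⟩ := hgc.exists_pow_eq (Perm.mem_support.1 hzs) (Perm.mem_support.1 (hOsub
        (Finset.mem_image.2 ⟨⟨m, hm⟩, Finset.mem_univ _, rfl⟩)))
      replace hk : (g ^ k) z = ((m : G) : Perm α) z := hk
      have hk11 : ¬ 11 ∣ k := by
        rintro ⟨c, rfl⟩
        rw [pow_mul, ← hgord, pow_orderOf_eq_one, one_pow, Perm.one_apply] at hk
        exact hz hk.symm
      have hiter : ∀ j : ℕ, (g ^ (k * j)) z ∈ O := by
        intro j
        induction j with
        | zero => exact Finset.mem_image.2 ⟨1, Finset.mem_univ _, rfl⟩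
        | succ j ih =>
          obtain ⟨x, -, hx⟩ := Finset.mem_image.1 ih
          obtain ⟨x', hx'⟩ := hOconj k x
          refine Finset.mem_image.2 ⟨x' * ⟨m, hm⟩, Finset.mem_univ _, ?_⟩
          change (((x' : J) : G) : Perm α) (((m : G) : Perm α) z) = _
          rw [← hk, ← hx', hx, ← Perm.mul_apply, ← pow_add]
          congr 2
          ring
      have hO : O = g.support := by
        refine Finset.Subset.antisymm hOsub fun w hw => ?_
        obtain ⟨l, rfl⟩ := hgc.exists_pow_eq (Perm.mem_support.1 hzs) (Perm.mem_support.1 hw)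
        obtain ⟨j, hj⟩ : ∃ j : ℕ, g ^ (k * j) = g ^ l := by
          obtain ⟨u, hu⟩ := exists_pow_eq_self_of_coprime (x := g) (n := k)
            (by rw [hgord]; exact ((by norm_num : Nat.Prime 11).coprime_iff_not_dvd.2 hk11).symm)
          exact ⟨u * l, by rw [← mul_assoc, pow_mul, pow_mul, hu]⟩
        rw [← hj]; exact hiter j
      apply hM11
      let fO : M → α := fun x => (((x : J) : G) : Perm α) z
      -- orbit-stabilizer
      letI : MulAction M α := MulAction.compHom α (G.subtype.comp (J.subtype.comp M.subtype))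
      have horb : Nat.card (MulAction.orbit M z) = 11 := by
        rw [← hgp, ← hO, ← Nat.card_eq_finsetCard]
        refine Nat.card_congr (Equiv.subtypeEquivRight fun w => ?_)
        constructor
        · rintro ⟨x, rfl⟩
          exact Finset.mem_image.2 ⟨x, Finset.mem_univ _, rfl⟩
        · intro h
          obtain ⟨x, -, rfl⟩ := Finset.mem_image.1 h
          exact ⟨x, rfl⟩
      haveI := Fintype.ofFinite M
      haveI := Fintype.ofFinite (MulAction.orbit M z)
      have h := MulAction.card_orbit_mul_card_stabilizer_eq_card_group M z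
      rw [← Nat.card_eq_fintype_card, ← Nat.card_eq_fintype_card, ← Nat.card_eq_fintype_card, horb] at h
      exact ⟨_, h.symm⟩
    have hJ11 : Nat.card J = 11 := by
      rw [← hcompl.card_mul, (Subgroup.eq_bot_iff_forall M).2 hJM, Subgroup.card_bot, one_mul,
        show Nat.card (P : Subgroup J) = Nat.card (Subgroup.zpowers gJ) by rw [hP], Nat.card_zpowers, hgJ]
    have hidx : J.index = 156 := by
      rw [hJ, IsMultiplyPretransitive.index_of_fixingSubgroup_eq]
      · rw [← Finset.coe_compl, Set.ncard_coe_finset, Finset.card_compl, hgp, hα, Nat.card_eq_fintype_card, hα]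
        rfl
      · rw [← Finset.coe_compl, Set.ncard_coe_finset, Finset.card_compl, hgp, hα]
        exact isMultiplyPretransitive_of_le (n := 3) (by norm_num) (by rw [Nat.card_eq_fintype_card, hα]; norm_num)
    have hGcard : Nat.card G = 1716 := by rw [← J.card_mul_index, hJ11, hidx]
    obtain ⟨a⟩ : Nonempty α := Fintype.card_pos_iff.1 (by omega)
    refine stabilizer_card_ne hα hG a ?_
    haveI := hprim.toIsPretransitive
    have h := (stabilizer G a).card_mul_index
    rw [MulAction.index_stabilizer_of_transitive, Nat.card_eq_fintype_card (α := α), hα, hGcard] at h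
    omega
  -- an element of order five
  obtain ⟨v, hvN, hvC⟩ := SetLike.not_le_iff_exists.1 hcase
  have hvg : ¬ Commute v gJ := fun hc => hvC (Subgroup.mem_centralizer_iff.2 fun y hy => by
    rw [show (y ∈ (P : Set J)) = (y ∈ (P : Subgroup J)) from rfl, hP] at hy
    obtain ⟨i, rfl⟩ := hy
    exact (hc.zpow_right i).eq.symm)
  obtain ⟨hv10, hvc, -⟩ := conj_cases hgJ (hnorm v hvN)
  have hv110 : v ^ 110 = 1 := by
    rw [show (110 : ℕ) = 10 * 11 by norm_num, pow_mul]; exact hcent _ hv10
  have hv55 : v ^ 55 = 1 := by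
    obtain ⟨-, -, h3⟩ := conj_cases hgJ (hnorm (v ^ 55) (pow_mem hvN 55))
    rcases h3 (by rw [← pow_mul, hv110]; exact Commute.one_left _) with h | h
    · have h11 := hcent _ h
      rw [← pow_mul] at h11
      rw [← pow_mod_orderOf]
      have hd := Nat.dvd_gcd (orderOf_dvd_of_pow_eq_one h11) (orderOf_dvd_of_pow_eq_one hv110)
      rw [pow_mod_orderOf]
      exact orderOf_dvd_iff_pow_eq_one.1 (hd.trans (by norm_num))
    · exfalso
      have hs := sign_inverting (v := (((v ^ 55 : J) : G) : Perm α)) (by norm_num : Nat.Prime 11) (by norm_num)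
        hgc hgp (by rw [← SubgroupClass.coe_pow, ← SubgroupClass.coe_pow, ← pow_mul, hv110]; rfl)
        (congrArg (fun x : J => ((x : G) : Perm α)) h) ((hmemJ _).1 (v ^ 55).2)
      have hev := hGA ((v ^ 55 : J) : G).2
      rw [mem_alternatingGroup, hs] at hev
      exact absurd hev (by decide)
  set uJ := v ^ 11 with huJ
  have hu5 : uJ ^ 5 = 1 := by rw [huJ, ← pow_mul]; exact hv55
  have hu1 : uJ ≠ 1 := fun e => hvg (hvc 11 (by norm_num) (by rw [← huJ, e]; exact Commute.one_left _))
  set u : Perm α := ((uJ : G) : Perm α) with hu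
  have huG : u ∈ G := (uJ : G).2
  have huord : orderOf u = 5 := by
    rw [hu, Subgroup.orderOf_coe, Subgroup.orderOf_coe]
    exact orderOf_eq_prime hu5 hu1
  have husub : u.support ⊆ g.support := fun z hz => by
    by_contra hc
    exact Perm.mem_support.1 hz ((hmemJ _).1 uJ.2 z hc)
  have five : ∀ r ∈ G, orderOf r = 5 → r.support.card < 10 → alternatingGroup α ≤ G := by
    intro r hr hro hlt
    have hrc : r.IsCycle := by
      obtain ⟨c, hc⟩ := cycleType_prime_order (σ := r) (by rw [hro]; norm_num)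
      rw [← sum_cycleType, hc, Multiset.sum_replicate, smul_eq_mul, hro] at hlt
      obtain rfl : c = 0 := by omega
      rw [← card_cycleType_eq_one, hc]
      rfl
    exact alternatingGroup_le_of_prime_cycle G hprim (p := 5) (by norm_num) (by omega) hrc
      (by rw [← hrc.orderOf, hro]) hr
  by_cases hu10 : u.support.card < 10
  · exact five u huG huord hu10
  have hucard : u.support.card = 10 := by
    obtain ⟨c, hc⟩ := cycleType_prime_order (σ := u) (by rw [huord]; norm_num)
    have h1 := Finset.card_le_card husub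
    rw [← sum_cycleType, hc, Multiset.sum_replicate, smul_eq_mul, huord] at h1 hu10 ⊢
    omega
  set T : Finset α := u.supportᶜ with hT
  have hTcard : T.card = 3 := by rw [hT, Finset.card_compl, hucard, hα]
  let L : Subgroup (Perm α) := G ⊓ fixingSubgroup (Perm α) (T : Set α)
  have hmemL : ∀ x, x ∈ L ↔ x ∈ G ∧ ∀ y ∈ T, x y = y := fun x => by
    simp [L, mem_fixingSubgroup_iff]
  have huL : u ∈ L := (hmemL u).2 ⟨huG, fun y hy => by simpa [hT] using hy⟩
  by_cases h25 : 5 ^ 2 ∣ Nat.card L
  · obtain ⟨R, hRcard, hRle⟩ := Sylow.exists_subgroup_card_pow_prime_le 5 h25 (Subgroup.zpowers (⟨u, huL⟩ : L))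
      (n := 1) (by rw [Nat.card_zpowers, ← Subgroup.orderOf_coe, huord, pow_one]) (by norm_num)
    have hab := IsPGroup.isMulCommutative_of_card_eq_prime_sq hRcard
    obtain ⟨z, hz⟩ : u.support.Nonempty := Finset.card_pos.1 (by omega)
    let ev : R → α := fun r => (((r : L) : Perm α)) z
    have hRsupp : ∀ r : R, ev r ∈ u.support := by
      intro r
      by_contra hc
      have h1 := ((hmemL _).1 (r : L).2).2 _ (by rw [hT]; exact Finset.mem_compl.2 hc)
      have h2 := (((r : L) : Perm α)).injective h1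
      rw [h2] at hc
      exact hc hz
    letI : MulAction R α := MulAction.compHom α (L.subtype.comp R.subtype)
    haveI := Fintype.ofFinite R
    haveI := Fintype.ofFinite (MulAction.orbit R z)
    have horb := MulAction.card_orbit_mul_card_stabilizer_eq_card_group R z
    rw [← Nat.card_eq_fintype_card, ← Nat.card_eq_fintype_card, ← Nat.card_eq_fintype_card, hRcard] at horb
    let uR : R := ⟨⟨u, huL⟩, hRle (Subgroup.mem_zpowers _)⟩
    have hle : Nat.card (MulAction.orbit R z) ≤ 10 := by
      rw [← hucard, ← Nat.card_eq_finsetCard]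
      refine Nat.card_le_card_of_injective
        (fun w => (⟨w.1, by obtain ⟨r, hr⟩ := w.2; rw [← hr]; exact hRsupp r⟩ : {x // x ∈ u.support})) ?_
      intro w w' e
      exact Subtype.ext (congrArg (fun q : {x // x ∈ u.support} => (q : α)) e)
    have horb5 : Nat.card (MulAction.orbit R z) = 5 := by
      have h1 : Nat.card (MulAction.orbit R z) ∣ 5 ^ 2 := ⟨_, horb.symm⟩
      obtain ⟨j, hj, hjc⟩ := (Nat.dvd_prime_pow (by norm_num : Nat.Prime 5)).1 h1
      have h3 : 1 < Nat.card (MulAction.orbit R z) := by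
        rw [Finite.one_lt_card_iff_nontrivial]
        exact ⟨⟨z, MulAction.mem_orbit_self z⟩, ⟨u z, uR, rfl⟩,
          fun e => Perm.mem_support.1 hz (congrArg Subtype.val e).symm⟩
      interval_cases j <;> omega
    rw [horb5] at horb
    obtain ⟨r, hr1⟩ : ∃ r : MulAction.stabilizer R z, r ≠ 1 := by
      by_contra h
      push Not at h
      have : Nat.card (MulAction.stabilizer R z) = 1 := Nat.card_eq_one_iff_unique.2
        ⟨⟨fun a b => (h a).trans (h b).symm⟩, ⟨1⟩⟩
      omega
    set r' : Perm α := (((r : R) : L) : Perm α) with hr'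
    have hrord : orderOf r' = 5 := by
      refine orderOf_eq_prime ?_ fun e => hr1 (Subtype.ext (Subtype.ext (Subtype.ext e)))
      have h5 : r ^ 5 = 1 := orderOf_dvd_iff_pow_eq_one.1 ((orderOf_dvd_natCard r).trans (by
        rw [show Nat.card (MulAction.stabilizer R z) = 5 by omega]))
      exact congrArg (fun q : MulAction.stabilizer R z => (((q : R) : L) : Perm α)) h5
    refine five r' ((hmemL _).1 ((r : R) : L).2).1 hrord ?_
    have hfixorb : r'.support ⊆ u.support \ Finset.univ.filter (fun w => w ∈ MulAction.orbit R z) := by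
      intro w hw
      refine Finset.mem_sdiff.2 ⟨?_, fun hwo => ?_⟩
      · by_contra hc
        exact Perm.mem_support.1 hw (((hmemL _).1 ((r : R) : L).2).2 _ (by rw [hT]; exact Finset.mem_compl.2 hc))
      · obtain ⟨s, rfl⟩ := (Finset.mem_filter.1 hwo).2
        refine Perm.mem_support.1 hw ?_
        have hc : (r : R) * s = s * (r : R) := hab.1.1 _ _
        have hrz : (r : R) • z = z := r.2
        change (r : R) • (s • z) = s • z
        rw [← mul_smul, hc, mul_smul, hrz]
    have hsub2 : Finset.univ.filter (fun w => w ∈ MulAction.orbit R z) ⊆ u.support := fun w hw => by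
      obtain ⟨s, rfl⟩ := (Finset.mem_filter.1 hw).2
      exact hRsupp s
    have h5 : (Finset.univ.filter (fun w => w ∈ MulAction.orbit R z)).card = 5 := by
      rw [← horb5, Nat.card_eq_fintype_card, ← Fintype.card_subtype]
    have := Finset.card_le_card hfixorb
    rw [Finset.card_sdiff_of_subset hsub2, hucard, h5] at this
    omega
  -- Frattini argument
  have hswap : ∀ u₁ ∈ T, ∀ v₁ ∈ T, ∃ a ∈ G, (∃ i : ℤ, a * u * a⁻¹ = u ^ i) ∧
      ∀ x ∈ T, a x = Equiv.swap u₁ v₁ x := by
    intro u₁ hu₁ v₁ hv₁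
    obtain ⟨h, hh, hmap⟩ := exists_map_of_isMultiplyPretransitive T (by rw [hTcard]; exact hG) (Equiv.swap u₁ v₁)
    have hclosed : ∀ x ∈ T, Equiv.swap u₁ v₁ x ∈ T := fun x hx => by
      rw [Equiv.swap_apply_def]; split_ifs <;> assumption
    have hconjL : h * u * h⁻¹ ∈ L := by
      refine (hmemL _).mpr ⟨G.mul_mem (G.mul_mem hh huG) (G.inv_mem hh), fun y hy => ?_⟩
      have h1 : h⁻¹ y = Equiv.swap u₁ v₁ y := by
        rw [Perm.inv_eq_iff_eq, hmap _ (hclosed y hy), Equiv.swap_apply_self]
      have h2 : u (Equiv.swap u₁ v₁ y) = Equiv.swap u₁ v₁ y := by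
        have := hclosed y hy
        simpa [hT] using this
      rw [Perm.mul_apply, Perm.mul_apply, h1, h2, hmap _ (hclosed y hy), Equiv.swap_apply_self]
    obtain ⟨P', hP'⟩ := exists_sylow_zpowers (p := 5) (x := (⟨u, huL⟩ : L))
      (by rw [← Subgroup.orderOf_coe]; exact huord) h25
    obtain ⟨Q, hQ⟩ := exists_sylow_zpowers (p := 5) (x := (⟨h * u * h⁻¹, hconjL⟩ : L)) (by
      rw [← Subgroup.orderOf_coe]
      show orderOf (h * u * h⁻¹) = 5
      rw [show h * u * h⁻¹ = MulAut.conj h u from rfl, MulEquiv.orderOf_eq, huord]) h25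
    obtain ⟨y, hy⟩ := MulAction.exists_smul_eq L Q P'
    have hmem : y * ⟨h * u * h⁻¹, hconjL⟩ * y⁻¹ ∈ (P' : Subgroup L) := by
      rw [← hy, Sylow.coe_subgroup_smul, Subgroup.mem_pointwise_smul_iff_inv_smul_mem, hQ]
      simp [mul_assoc]
    rw [hP'] at hmem
    obtain ⟨i, hi⟩ := hmem
    have hi' := congrArg (Subtype.val : L → Perm α) hi
    simp only [Subgroup.coe_zpow, Subgroup.coe_mul, Subgroup.coe_inv] at hi'
    refine ⟨(y : Perm α) * h, G.mul_mem ((hmemL _).mp y.2).1 hh, ⟨i, by rw [hi']; group⟩, fun x hx => ?_⟩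
    rw [Perm.mul_apply, hmap x hx]
    exact ((hmemL _).mp y.2).2 _ (hclosed x hx)
  obtain ⟨t₁, t₂, t₃, h12, h13, h23, hTeq⟩ := Finset.card_eq_three.1 hTcard
  obtain ⟨a, haG, ⟨i, hai⟩, ha⟩ := hswap t₁ (by rw [hTeq]; simp) t₂ (by rw [hTeq]; simp)
  obtain ⟨b, hbG, ⟨j, hbj⟩, hb⟩ := hswap t₂ (by rw [hTeq]; simp) t₃ (by rw [hTeq]; simp)
  have e1 : (a * b) * u * (a * b)⁻¹ = (b * a) * u * (b * a)⁻¹ := by
    calc (a * b) * u * (a * b)⁻¹ = a * (b * u * b⁻¹) * a⁻¹ := by group
      _ = (a * u * a⁻¹) ^ j := by rw [hbj, ← conj_zpow]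
      _ = (b * u * b⁻¹) ^ i := by rw [hai, hbj, ← zpow_mul, ← zpow_mul, mul_comm]
      _ = b * (a * u * a⁻¹) * b⁻¹ := by rw [hai, ← conj_zpow]
      _ = (b * a) * u * (b * a)⁻¹ := by group
  obtain ⟨x, hx⟩ : ∃ x, x = (b * a)⁻¹ * (a * b) := ⟨_, rfl⟩
  have hxg : Commute x u := by
    show x * u = u * x
    calc x * u = (b * a)⁻¹ * ((a * b) * u * (a * b)⁻¹) * (a * b) := by rw [hx]; group
      _ = u * x := by rw [e1, hx]; group
  have hxG : x ∈ G := hx ▸ G.mul_mem (G.inv_mem (G.mul_mem hbG haG)) (G.mul_mem haG hbG)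
  have m1 : t₁ ∈ T := by rw [hTeq]; simp
  have m2 : t₂ ∈ T := by rw [hTeq]; simp
  have m3 : t₃ ∈ T := by rw [hTeq]; simp
  have a1 : a t₁ = t₂ := by rw [ha t₁ m1, Equiv.swap_apply_left]
  have a2 : a t₂ = t₁ := by rw [ha t₂ m2, Equiv.swap_apply_right]
  have a3 : a t₃ = t₃ := by rw [ha t₃ m3, Equiv.swap_apply_of_ne_of_ne h13.symm h23.symm]
  have b1 : b t₁ = t₁ := by rw [hb t₁ m1, Equiv.swap_apply_of_ne_of_ne h12 h13]
  have b2 : b t₂ = t₃ := by rw [hb t₂ m2, Equiv.swap_apply_left]
  have b3 : b t₃ = t₂ := by rw [hb t₃ m3, Equiv.swap_apply_right]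
  have x1 : x t₁ = t₃ := by
    rw [hx, Perm.mul_apply, Perm.inv_eq_iff_eq, Perm.mul_apply, Perm.mul_apply, b1, a1, a3, b3]
  have x3 : x t₃ = t₂ := by
    rw [hx, Perm.mul_apply, Perm.inv_eq_iff_eq, Perm.mul_apply, Perm.mul_apply, b3, a2, b1]
  have x2 : x t₂ = t₁ := by
    rw [hx, Perm.mul_apply, Perm.inv_eq_iff_eq, Perm.mul_apply, Perm.mul_apply, b2, a3, a1, b2]
  set y := x ^ 10 with hy
  have hyu : ∀ z ∈ u.support, y z = z := by
    intro z hz
    have hstep : ∀ (n : ℕ) (k : ℤ), (x ^ n) z = (u ^ k) z → ∀ c : ℕ, ((x ^ n) ^ c) z = (u ^ (k * c)) z := by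
      intro n k hnk c
      induction c with
      | zero => simp
      | succ c ih =>
        rw [pow_succ', Perm.mul_apply, ih, ← Perm.mul_apply, ((hxg.pow_left n).zpow_right _).eq, Perm.mul_apply, hnk,
          ← Perm.mul_apply, ← zpow_add]
        congr 2
        push_cast; ring
    have h5 : ∀ k : ℤ, u ^ (k * 5) = 1 := fun k => by
      rw [mul_comm, zpow_mul, show (5 : ℤ) = ((orderOf u : ℕ) : ℤ) by rw [huord]; rfl, zpow_natCast,
        pow_orderOf_eq_one, one_zpow]
    have hcases : u.SameCycle z (x z) ∨ u.SameCycle z (x (x z)) := by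
      by_contra hc
      push Not at hc
      obtain ⟨hc1, hc2⟩ := hc
      have hc3 : ¬ u.SameCycle (x z) (x (x z)) := by
        rintro ⟨k, hk⟩
        apply hc1
        refine ⟨k, x.injective ?_⟩
        rw [← Perm.mul_apply, (hxg.zpow_right k).eq, Perm.mul_apply, hk]
      let O : α → Finset α := fun w => (Finset.range 5).image fun l => (u ^ l) w
      have hxsupp : ∀ w ∈ u.support, x w ∈ u.support := fun w hw => by
        rw [Perm.mem_support] at hw ⊢
        intro h
        apply hw
        apply x.injective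
        rw [← Perm.mul_apply, hxg.eq, Perm.mul_apply, h]
      have hO5 : ∀ w ∈ u.support, (O w).card = 5 ∧ O w ⊆ u.support := by
        intro w hw
        refine ⟨?_, fun w' hw' => ?_⟩
        · rw [Finset.card_image_of_injOn, Finset.card_range]
          intro l hl l' hl' e
          rw [Finset.coe_range, Set.mem_Iio] at hl hl'
          replace e : (u ^ l) w = (u ^ l') w := e
          by_contra hne
          have key : ∀ l l' : ℕ, l < l' → l' < 5 → (u ^ l) w = (u ^ l') w → False := by
            intro l l' hlt h5' e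
            have h1 : (u ^ (l' - l)) w = w := by
              apply (u ^ l).injective
              rw [← Perm.mul_apply, ← pow_add, Nat.add_sub_cancel' hlt.le, e]
            obtain ⟨c, hc⟩ := exists_pow_eq_self_of_coprime (x := u) (n := l' - l) (by
              rw [huord]
              exact ((by norm_num : Nat.Prime 5).coprime_iff_not_dvd.2 fun hd => by
                have := Nat.le_of_dvd (by omega) hd
                omega).symm)
            refine Perm.mem_support.1 hw ?_
            conv_lhs => rw [← hc]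
            exact Perm.pow_apply_eq_self_of_apply_eq_self h1 c
          rcases Nat.lt_or_ge l l' with h | h
          · exact key l l' h hl' e
          · exact key l' l (lt_of_le_of_ne h (Ne.symm hne)) hl e.symm
        · obtain ⟨l, -, rfl⟩ := Finset.mem_image.1 hw'
          exact Perm.pow_apply_mem_support.2 hw
      have hdisj : ∀ w w' : α, ¬ u.SameCycle w w' → Disjoint (O w) (O w') := by
        intro w w' hn
        rw [Finset.disjoint_left]
        intro s hs hs'
        obtain ⟨l, -, rfl⟩ := Finset.mem_image.1 hs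
        obtain ⟨l', -, hl'⟩ := Finset.mem_image.1 hs'
        exact hn ((show u.SameCycle w ((u ^ l) w) from ⟨(l : ℤ), by simp⟩).trans
          (show u.SameCycle w' ((u ^ l) w) from ⟨(l' : ℤ), by simpa using hl'⟩).symm)
      obtain ⟨c1, s1⟩ := hO5 z hz
      obtain ⟨c2, s2⟩ := hO5 (x z) (hxsupp z hz)
      obtain ⟨c3, s3⟩ := hO5 (x (x z)) (hxsupp _ (hxsupp z hz))
      have := Finset.card_le_card (Finset.union_subset (Finset.union_subset s1 s2) s3)
      rw [Finset.card_union_of_disjoint (Finset.disjoint_union_left.2 ⟨hdisj _ _ hc2, hdisj _ _ hc3⟩),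
        Finset.card_union_of_disjoint (hdisj _ _ hc1), c1, c2, c3, hucard] at this
      omega
    rcases hcases with ⟨k, hk⟩ | ⟨k, hk⟩
    · have h1 := hstep 1 k (by rw [pow_one, hk]) 10
      rw [← pow_mul, one_mul, ← hy] at h1
      rw [h1, show k * ((10 : ℕ) : ℤ) = (k * 2) * 5 by push_cast; ring, h5, Perm.one_apply]
    · have h1 := hstep 2 k (by rw [pow_two, Perm.mul_apply, hk]) 5
      rw [← pow_mul, ← hy] at h1
      rw [h1, show k * ((5 : ℕ) : ℤ) = k * 5 by rfl, h5, Perm.one_apply]
  have hy1 : y t₁ = t₃ := by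
    rw [hy]
    simp only [pow_succ, pow_zero, one_mul, Perm.mul_apply, x1, x2, x3]
  have hyA : sign y = 1 := mem_alternatingGroup.1 (hGA (G.pow_mem hxG 10))
  have hysub : y.support ⊆ T := fun z hz => by
    rw [hT, Finset.mem_compl]
    exact fun h => Perm.mem_support.1 hz (hyu z h)
  have hy3 : y.IsThreeCycle := by
    rw [← card_support_eq_three_iff]
    have h1 := Finset.card_le_card hysub
    rw [hTcard] at h1
    have h2 : y.support.card ≠ 0 := fun e => by
      rw [Finset.card_eq_zero, support_eq_empty_iff] at e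
      rw [e, Perm.one_apply] at hy1
      exact h13 hy1
    have h3 : y.support.card ≠ 2 := fun e => by
      rw [(card_support_eq_two.1 e).sign_eq] at hyA
      exact absurd hyA (by decide)
    have h4 := Perm.card_support_ne_one y
    omega
  exact alternatingGroup_le_of_isPreprimitive_of_isThreeCycle_mem hprim (g := y) hy3 (G.pow_mem hxG 10)

end CfsgLib.AltTwoPrimes
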